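import Groth.Agent.AlgSpB.LP.Bridge

/-!
# Preservation of limits is fppf local on the base
-/

universe u

open CategoryTheory CategoryTheory.Limits AlgebraicGeometry Opposite

set_option backward.isDefEq.respectTransparency false
set_option backward.isDefEq.respectTransparency.types false
set_option autoImplicit false

namespace Groth.Agent.AlgSpB.LP

open _root_.AlgSp

variable {S : Scheme.{u}} {F : PSp S}

/-- The sieve of schemes factoring through one of the given schemes. -/
def factSieve {ι : Type u} (U : ι → Over S) (T : Over S) : Sieve T where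
  arrows W _ := ∃ (j : ι) (h : W.left ⟶ (U j).left), h ≫ (U j).hom = W.hom
  downward_closed := by
    rintro W W' g ⟨j, h, hh⟩ f
    exact ⟨j, f.left ≫ h, by rw [Category.assoc, hh, Over.w]⟩

theorem factSieve_mem {ι : Type u} {U : ι → Over S} (hfl : ∀ j, Flat (U j).hom)
    (hfp : ∀ j, LocallyOfFinitePresentation (U j).hom)
    (hsurj : ∀ s : ↥S, ∃ (j : ι) (x : ↥(U j).left), (U j).hom.base x = s) (T : Over S) :
    factSieve U T ∈ J S T := by
  refine mem_of_family (V := fun j => Over.mk (pullback.snd (U j).hom T.hom ≫ T.hom))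
    (fun j => Over.homMk (pullback.snd (U j).hom T.hom) rfl)
    (fun j => ?_) (fun j => ?_) (fun x => ?_) fun j => ⟨j, pullback.fst _ _, pullback.condition⟩
  · have := hfl j
    exact inferInstanceAs (Flat (pullback.snd (U j).hom T.hom))
  · exact MorphismProperty.pullback_snd (U j).hom T.hom (hfp j)
  · obtain ⟨j, z, hz⟩ := hsurj (T.hom x)
    refine ⟨j, ?_⟩
    change x ∈ Set.range (pullback.snd (U j).hom T.hom)
    rw [Scheme.Pullback.range_snd]
    exact ⟨z, hz⟩

section Lift

variable {I : Type u} [SmallCategory I] [IsCofiltered I] {D : I ⥤ Over S} {c : Cone D} {i : I} {W : Over S}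
  (w : W ⟶ D.obj i) {U : Over S} (h : W.left ⟶ U.left) (hh : h ≫ U.hom = W.hom)

/-- The system over a member of the covering. -/
noncomputable def liftSys : Over i ⥤ Over U.left where
  obj j := Over.mk ((bcP D w j).left ≫ h)
  map {j k} a := Over.homMk ((bcSys D w).map a).left (by
    change ((bcSys D w).map a).left ≫ (bcP D w k).left ≫ h = (bcP D w j).left ≫ h
    rw [← Category.assoc, ← Over.comp_left, bc_map_p])
  map_id j := Over.OverMorphism.ext (by simp)
  map_comp a b := Over.OverMorphism.ext (by simp)

variable {P : Over S} {p : P ⟶ W} {q : P ⟶ c.pt} (sq : IsPullback p q w (c.π.app i))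

/-- The cone over a member of the covering. -/
noncomputable def liftCone : Cone (liftSys (D := D) w h) where
  pt := Over.mk (p.left ≫ h)
  π :=
    { app := fun j => Over.homMk ((bcCone D w sq).π.app j).left (by
        change ((bcCone D w sq).π.app j).left ≫ (bcP D w j).left ≫ h = p.left ≫ h
        rw [← Category.assoc, ← Over.comp_left, bcCone_p])
      naturality := fun j k a => Over.OverMorphism.ext
        (congrArg CommaMorphism.left ((bcCone D w sq).π.naturality a) :) }

/-- The lifted cone is a limit cone. -/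
noncomputable def isLimitLiftCone (hc : IsLimit ((Over.forget S).mapCone c)) :
    IsLimit ((Over.forget U.left).mapCone (liftCone w h sq)) :=
  (isLimitBcCone D w sq hc).ofIsoLimit (Cone.ext (Iso.refl _) fun _ => (Category.id_comp _).symm)

include hh in
theorem w_lift (j : Over i) : (bcP D w j).left ≫ h ≫ U.hom = ((bcSys D w).obj j).hom := by
  rw [hh, Over.w]

/-- The comparison with the base change. -/
noncomputable def η (j : Over i) : (Over.map U.hom).obj ((liftSys (D := D) w h).obj j) ⟶ (bcSys D w).obj j :=
  Over.homMk (𝟙 _) (by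
    change 𝟙 _ ≫ ((bcSys D w).obj j).hom = ((bcP D w j).left ≫ h) ≫ U.hom
    rw [Category.id_comp, Category.assoc, w_lift w h hh])

/-- The inverse comparison. -/
noncomputable def η' (j : Over i) : (bcSys D w).obj j ⟶ (Over.map U.hom).obj ((liftSys (D := D) w h).obj j) :=
  Over.homMk (𝟙 _) (by
    change 𝟙 _ ≫ ((bcP D w j).left ≫ h) ≫ U.hom = ((bcSys D w).obj j).hom
    rw [Category.id_comp, Category.assoc, w_lift w h hh])

/-- The comparison at the limit. -/
noncomputable def ηpt : (Over.map U.hom).obj (liftCone w h sq).pt ⟶ P :=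
  Over.homMk (𝟙 _) (by
    change 𝟙 _ ≫ P.hom = (p.left ≫ h) ≫ U.hom
    rw [Category.id_comp, Category.assoc, hh, Over.w])

/-- The inverse comparison at the limit. -/
noncomputable def ηpt' : P ⟶ (Over.map U.hom).obj (liftCone w h sq).pt :=
  Over.homMk (𝟙 _) (by
    change 𝟙 _ ≫ (p.left ≫ h) ≫ U.hom = P.hom
    rw [Category.id_comp, Category.assoc, hh, Over.w])

end Lift

/-- Preservation of limits is fppf local on the base, for sheaves. -/
theorem relLP_toPt_of_local (hF : Presheaf.IsSheaf (J S) F) {ι : Type u} (U : ι → Over S)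
    (hfl : ∀ j, Flat (U j).hom) (hfp : ∀ j, LocallyOfFinitePresentation (U j).hom)
    (hsurj : ∀ s : ↥S, ∃ (j : ι) (x : ↥(U j).left), (U j).hom.base x = s)
    (hloc : ∀ j, IsLimitPreserving (S := (U j).left) ((Over.map (U j).hom).op ⋙ F)) : RelLP (toPt F) := by
  have hinj : RelLPInj (toPt F) := by
    intro I _ _ D c hc hD hpt i x x' _ hlim
    have := hD i
    obtain ⟨κ, _, W, w, hW, hf, hp, hs, hw⟩ := exists_family (factSieve_mem hfl hfp hsurj (D.obj i))
    refine eq_of_family_stage hF w hf hp hs x x' fun k => ?_
    obtain ⟨j, h, hh⟩ := hw k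
    have := hW k
    have : IsAffine (((Functor.const I).obj c.pt).obj i).left := hpt
    have sq := IsPullback.of_hasPullback (w k) (c.π.app i)
    have haf : IsAffine (liftCone (w k) h sq).pt.left := (isAffine_pullback sq :)
    let top : Over i := Over.mk (𝟙 i)
    let e := η (D := D) (w k) h hh top ≫ bcQ D (w k) top ≫ D.map top.hom
    obtain ⟨n, f, hn⟩ := (relLP_toPt_iff.2 (hloc j) (liftSys (D := D) (w k) h) (liftCone (w k) h sq)
      (isLimitLiftCone (w k) h sq hc) (isAffine_bc D (w k) hD) haf).2 top
      (F.map e.op x) (F.map e.op x') rfl (by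
        change F.map ((Over.map (U j).hom).map ((liftCone (w k) h sq).π.app top)).op (F.map e.op x) =
          F.map ((Over.map (U j).hom).map ((liftCone (w k) h sq).π.app top)).op (F.map e.op x')
        have e1 : (Over.map (U j).hom).map ((liftCone (w k) h sq).π.app top) ≫ e =
            (ηpt (w k) h hh sq ≫ pullback.snd _ _) ≫ c.π.app i := by
          have e2 : (Over.map (U j).hom).map ((liftCone (w k) h sq).π.app top) ≫ η (D := D) (w k) h hh top =
              ηpt (w k) h hh sq ≫ (bcCone D (w k) sq).π.app top :=
            Over.OverMorphism.ext ((Category.comp_id _).trans (Category.id_comp _).symm)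
          change _ ≫ η (D := D) (w k) h hh top ≫ _ = _
          rw [← Category.assoc, e2, Category.assoc, ← Category.assoc ((bcCone D (w k) sq).π.app top), bcCone_q,
            Category.assoc, Category.assoc, c.w]
        refine ((map_map_op _ _ x).trans ?_).trans (map_map_op _ _ x').symm
        refine ((congrArg (fun g => F.map g.op x) e1).trans ?_).trans (congrArg (fun g => F.map g.op x') e1).symm
        exact ((map_map_op _ _ x).symm.trans (congrArg _ hlim)).trans (map_map_op _ _ x'))
    refine ⟨n, ?_⟩
    have hn' : F.map ((Over.map (U j).hom).map ((liftSys (D := D) (w k) h).map f)).op (F.map e.op x) =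
        F.map ((Over.map (U j).hom).map ((liftSys (D := D) (w k) h).map f)).op (F.map e.op x') := hn
    rw [map_map_op, map_map_op] at hn'
    have e1 : bcQ D (w k) n ≫ D.map n.hom =
        η' (D := D) (w k) h hh n ≫ (Over.map (U j).hom).map ((liftSys (D := D) (w k) h).map f) ≫ e := by
      have e2 : η' (D := D) (w k) h hh n ≫ (Over.map (U j).hom).map ((liftSys (D := D) (w k) h).map f) ≫
          η (D := D) (w k) h hh top = (bcSys D (w k)).map f :=
        Over.OverMorphism.ext ((Category.id_comp _).trans (Category.comp_id _))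
      change _ = _ ≫ _ ≫ η (D := D) (w k) h hh top ≫ _
      rw [← Category.assoc _ (η (D := D) (w k) h hh top), ← Category.assoc (η' (D := D) (w k) h hh n), e2,
        ← Category.assoc ((bcSys D (w k)).map f), bc_map_q, Category.assoc, ← D.map_comp, Over.w]
    rw [e1, ← map_map_op, ← map_map_op (η' (D := D) (w k) h hh n), hn']
  intro I _ _ D c hc hD hpt
  refine ⟨fun i y x _ => ?_, hinj D c hc hD hpt⟩
  have := hD i
  obtain ⟨κ, _, W, w, hW, hf, hp, hs, hw⟩ := exists_family (factSieve_mem hfl hfp hsurj (D.obj i))
  refine exists_of_family_stage hF isSheaf_pt (toPt F) hinj hc hD w hW hf hp hs y x fun k P p q sq => ?_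
  obtain ⟨j, h, hh⟩ := hw k
  have := hW k
  have : IsAffine (((Functor.const I).obj c.pt).obj i).left := hpt
  have haf : IsAffine (liftCone (w k) h sq).pt.left := (isAffine_pullback sq :)
  obtain ⟨n, -, z, -, hz⟩ := (relLP_toPt_iff.2 (hloc j) (liftSys (D := D) (w k) h) (liftCone (w k) h sq)
    (isLimitLiftCone (w k) h sq hc) (isAffine_bc D (w k) hD) haf).1 (Over.mk (𝟙 i)) PUnit.unit
    (F.map (ηpt (w k) h hh sq ≫ q).op x) rfl
  refine ⟨n, F.map (η' (D := D) (w k) h hh n).op z, rfl, ?_⟩
  have e : (bcCone D (w k) sq).π.app n ≫ η' (D := D) (w k) h hh n =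
      ηpt' (w k) h hh sq ≫ (Over.map (U j).hom).map ((liftCone (w k) h sq).π.app n) :=
    Over.OverMorphism.ext ((Category.comp_id _).trans (Category.id_comp _).symm)
  refine (map_map_op (F := F) _ _ z).trans ?_
  rw [e, ← map_map_op]
  refine (congrArg _ hz).trans ((map_map_op _ _ x).trans ?_)
  exact congrArg (fun g => F.map g.op x) (show ηpt' (w k) h hh sq ≫ ηpt (w k) h hh sq ≫ q = q from
    Over.OverMorphism.ext ((Category.id_comp _).trans (Category.id_comp _)))

end Groth.Agent.AlgSpB.LP
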